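import Groth.Agent.Lib.Helper6.PolyHtpy.Weight

set_option linter.unusedSectionVars false
set_option linter.unusedVariables false
set_option linter.unusedSimpArgs false
set_option autoImplicit false
set_option linter.style.haveILetI false
set_option maxHeartbeats 400000

/-!
# Forms killed by a product of `(L - N)`, `N ≥ 1`, are exact when closed
-/

open exteriorPower

namespace Groth.Agent.Lib.Helper6.Poincare

open Groth.Agent.Lib.Helper6.DeRhamQuot Groth.Agent.Lib.Helper6.DeRhamGen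

universe v u

variable {R : Type v} {A M : Type u} [CommRing R] [CommRing A] [Algebra R A]
  [AddCommGroup M] [Module A M] [Module R M] [IsScalarTower R A M]

variable (δ : Derivation R A M) (hδ : Submodule.span A (Set.range δ) = ⊤)
  (d : ∀ p : ℕ, ↥(⋀[A]^p M) →ₗ[R] ↥(⋀[A]^(p + 1) M)) (hd : DeRham.IsDiff δ d)
  (φ : Module.Dual A M)

/-- the Lie derivative as an element of the endomorphism ring -/
noncomputable def lieE (q : ℕ) : Module.End R ↥(⋀[A]^q M) := lie d φ q

/-- the product `(L - 1)(L - 2)⋯(L - m)` -/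
noncomputable def Kop (q : ℕ) : ℕ → Module.End R ↥(⋀[A]^q M)
  | 0 => 1
  | m + 1 => Kop q m * (lieE d φ q - ((m + 1 : ℕ) : Module.End R ↥(⋀[A]^q M)))

theorem Kop_succ_apply (q m : ℕ) (u : ↥(⋀[A]^q M)) :
    Kop d φ q (m + 1) u = Kop d φ q m (lie d φ q u - (m + 1) • u) := by
  show (Kop d φ q m * (lieE d φ q - ((m + 1 : ℕ) : Module.End R ↥(⋀[A]^q M)))) u = _
  rw [Module.End.mul_apply, LinearMap.sub_apply]
  congr 2

theorem commute_Kop (q m c : ℕ) :
    Commute (lieE d φ q - ((c : ℕ) : Module.End R ↥(⋀[A]^q M))) (Kop d φ q m) := by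
  induction m with
  | zero => exact Commute.one_right _
  | succ m ih =>
    show Commute _ (Kop d φ q m * _)
    refine Commute.mul_right ih ?_
    show (lieE d φ q - ((c : ℕ) : Module.End R ↥(⋀[A]^q M)))
        * (lieE d φ q - ((m + 1 : ℕ) : Module.End R ↥(⋀[A]^q M)))
      = (lieE d φ q - ((m + 1 : ℕ) : Module.End R ↥(⋀[A]^q M)))
        * (lieE d φ q - ((c : ℕ) : Module.End R ↥(⋀[A]^q M)))
    apply LinearMap.ext
    intro u
    simp only [Module.End.mul_apply, LinearMap.sub_apply, map_sub, Module.End.natCast_apply,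
      map_nsmul, smul_sub]
    rw [smul_comm c (m + 1) u]
    abel

theorem Kop_succ_apply' (q m : ℕ) (u : ↥(⋀[A]^q M)) :
    Kop d φ q (m + 1) u = lie d φ q (Kop d φ q m u) - (m + 1) • Kop d φ q m u := by
  have h := commute_Kop d φ q m (m + 1)
  have h2 : Kop d φ q (m + 1) = (lieE d φ q - ((m + 1 : ℕ) : Module.End R ↥(⋀[A]^q M))) * Kop d φ q m :=
    h.eq.symm
  rw [h2, Module.End.mul_apply, LinearMap.sub_apply]
  congr 1

theorem Kop_mono (q : ℕ) (u : ↥(⋀[A]^q M)) (m m' : ℕ) (h : m ≤ m') (hu : Kop d φ q m u = 0) :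
    Kop d φ q m' u = 0 := by
  induction m', h using Nat.le_induction with
  | base => exact hu
  | succ m' _ ih => rw [Kop_succ_apply', ih, map_zero, smul_zero, sub_zero]

theorem Kop_eigen (q N : ℕ) (hN : 0 < N) (u : ↥(⋀[A]^q M)) (hu : lie d φ q u = N • u) :
    Kop d φ q N u = 0 := by
  obtain ⟨N', rfl⟩ := Nat.exists_eq_succ_of_ne_zero hN.ne'
  rw [Kop_succ_apply, hu, sub_self, map_zero]

theorem Kop_add (q : ℕ) (u₁ u₂ : ↥(⋀[A]^q M)) (h₁ : ∃ m, Kop d φ q m u₁ = 0)
    (h₂ : ∃ m, Kop d φ q m u₂ = 0) : ∃ m, Kop d φ q m (u₁ + u₂) = 0 := by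
  obtain ⟨m₁, h₁⟩ := h₁
  obtain ⟨m₂, h₂⟩ := h₂
  refine ⟨max m₁ m₂, ?_⟩
  rw [map_add, Kop_mono d φ q u₁ m₁ _ (le_max_left _ _) h₁,
    Kop_mono d φ q u₂ m₂ _ (le_max_right _ _) h₂, add_zero]

variable [Algebra ℚ R]
include hδ hd

theorem eq_of_succ_smul (q m : ℕ) (u w : ↥(⋀[A]^q M)) (h : (m + 1) • u = w) :
    u = (algebraMap ℚ R ((m + 1 : ℚ)⁻¹)) • w := by
  rw [← h, ← Nat.cast_smul_eq_nsmul R (m + 1) u, smul_smul]
  have : algebraMap ℚ R ((m + 1 : ℚ)⁻¹) * ((m + 1 : ℕ) : R) = 1 := by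
    have h1 : ((m + 1 : ℕ) : R) = algebraMap ℚ R ((m + 1 : ℕ) : ℚ) := by simp
    rw [h1, ← map_mul]
    have : ((m + 1 : ℚ)⁻¹) * ((m + 1 : ℕ) : ℚ) = 1 := by
      push_cast
      field_simp
    rw [this, map_one]
  rw [this, one_smul]

/-- closed forms of positive degree killed by some `Kop m` are exact -/
theorem exact_of_Kop (q : ℕ) : ∀ (m : ℕ) (u : ↥(⋀[A]^(q + 1) M)), d (q + 1) u = 0 →
    Kop d φ (q + 1) m u = 0 → u ∈ LinearMap.range (d q) := by
  intro m
  induction m with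
  | zero =>
    intro u _ h
    have : u = 0 := h
    rw [this]
    exact Submodule.zero_mem _
  | succ m ih =>
    intro u hu h
    rw [Kop_succ_apply] at h
    have hcl : d (q + 1) (lie d φ (q + 1) u - (m + 1) • u) = 0 := by
      rw [map_sub, d_lie δ hδ d hd φ, hu, map_zero, map_nsmul, hu, smul_zero, sub_zero]
    obtain ⟨θ, hθ⟩ := ih _ hcl h
    have hL := lie_closed_succ d φ q u hu
    have h3 : (m + 1) • u = d q (contrP φ q u - θ) := by
      rw [map_sub, hθ, ← hL]
      abel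
    rw [eq_of_succ_smul δ hδ d hd (q + 1) m u _ h3, ← map_smul]
    exact LinearMap.mem_range_self _ _

/-- closed forms of degree zero killed by some `Kop m` vanish -/
theorem zero_of_Kop : ∀ (m : ℕ) (u : ↥(⋀[A]^0 M)), d 0 u = 0 →
    Kop d φ 0 m u = 0 → u = 0 := by
  intro m
  induction m with
  | zero =>
    intro u _ h
    exact h
  | succ m ih =>
    intro u hu h
    rw [Kop_succ_apply] at h
    have hcl : d 0 (lie d φ 0 u - (m + 1) • u) = 0 := by
      rw [map_sub, d_lie δ hδ d hd φ, hu, map_zero, map_nsmul, hu, smul_zero, sub_zero]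
    have h2 := ih _ hcl h
    rw [lie_closed_zero d φ u hu, zero_sub, neg_eq_zero] at h2
    rw [eq_of_succ_smul δ hδ d hd 0 m u _ h2, smul_zero]

end Groth.Agent.Lib.Helper6.Poincare
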