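import Groth.Agent.Lib.Helper6.PolyHtpy.Setup

set_option linter.unusedSectionVars false
set_option linter.unusedVariables false
set_option linter.unusedSimpArgs false
set_option autoImplicit false
set_option linter.style.haveILetI false
set_option maxHeartbeats 400000

/-!
# `A → A[X]` induces a quasi-isomorphism of de Rham complexes over a `ℚ`-algebra
-/

open exteriorPower Polynomial

namespace Groth.Agent.Lib.Helper6.PolyHtpy

open Groth.Agent.Lib.Helper6.DeRhamQuot Groth.Agent.Lib.Helper6.DeRhamGen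
open Groth.Agent.Lib.Helper6.Poincare

universe u

variable (R A : Type u) [CommRing R] [CommRing A] [Algebra R A]

/-- evaluation at `0` on forms -/
theorem exists_ev : ∃ ev : ∀ p : ℕ, ↥(⋀[A[X]]^p (Ω[A[X]⁄R])) →+ ↥(⋀[A]^p (Ω[A⁄R])),
    DeRham.IsCxMap (KaehlerDifferential.D R A[X]) (KaehlerDifferential.D R A)
      (Polynomial.evalRingHom (0 : A)) ev := by
  letI : Algebra A[X] A := (Polynomial.evalRingHom (0 : A)).toAlgebra
  haveI : IsScalarTower R A[X] A := IsScalarTower.of_algebraMap_eq (fun r => by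
    rw [RingHom.algebraMap_toAlgebra, Polynomial.algebraMap_apply]
    simp)
  exact exists_cxMap R R A[X] A

variable {R A}
variable (d : ∀ p : ℕ, ↥(⋀[A]^p (Ω[A⁄R])) →ₗ[R] ↥(⋀[A]^(p + 1) (Ω[A⁄R])))
    (hd : DeRham.IsDiff (KaehlerDifferential.D R A) d)
    (d' : ∀ p : ℕ, ↥(⋀[A[X]]^p (Ω[A[X]⁄R])) →ₗ[R] ↥(⋀[A[X]]^(p + 1) (Ω[A[X]⁄R])))
    (hd' : DeRham.IsDiff (KaehlerDifferential.D R A[X]) d')
    (ψ : ∀ p : ℕ, ↥(⋀[A]^p (Ω[A⁄R])) →+ ↥(⋀[A[X]]^p (Ω[A[X]⁄R])))
    (hψ : DeRham.IsCxMap (KaehlerDifferential.D R A) (KaehlerDifferential.D R A[X])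
      (algebraMap A A[X]) ψ)
    (ev : ∀ p : ℕ, ↥(⋀[A[X]]^p (Ω[A[X]⁄R])) →+ ↥(⋀[A]^p (Ω[A⁄R])))
    (hev : DeRham.IsCxMap (KaehlerDifferential.D R A[X]) (KaehlerDifferential.D R A)
      (Polynomial.evalRingHom (0 : A)) ev)

include hψ hev in
theorem ev_psi (p : ℕ) (x : ↥(⋀[A]^p (Ω[A⁄R]))) : ev p (ψ p x) = x := by
  induction x using kaehler_induction R A p with
  | zero => simp
  | add x y hx hy => rw [map_add, map_add, hx, hy]
  | gen b₀ b =>
    rw [hψ p, hev p]
    simp

include hd hd' hev in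
theorem ev_comm (p : ℕ) (y : ↥(⋀[A[X]]^p (Ω[A[X]⁄R]))) : ev (p + 1) (d' p y) = d p (ev p y) :=
  cxMap_comm (KaehlerDifferential.D R A[X]) (KaehlerDifferential.span_range_derivation R A[X])
    (KaehlerDifferential.D R A) (Polynomial.evalRingHom (0 : A)) d' hd'.1 d hd.1 ev hev p y

include hev in
theorem ev_mgen_of_pos (q : ℕ) (c : A × ℕ) (s : Fin q → A × ℕ) (h : 0 < wt A q c s) :
    ev q (mgen R A q c s) = 0 := by
  rw [mgen_eq_gen, hev q]
  unfold DeRham.gen
  by_cases hc : c.2 = 0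
  · have : ∃ j, (s j).2 ≠ 0 := by
      by_contra hne
      push Not at hne
      unfold wt at h
      rw [hc, zero_add] at h
      have : ∑ j, (s j).2 = 0 := Finset.sum_eq_zero fun j _ => hne j
      omega
    obtain ⟨j, hj⟩ := this
    have h0 : (Polynomial.evalRingHom (0 : A)) (mono A (s j)) = 0 := by
      unfold mono
      simp [hj]
    rw [(ιMulti A q).map_coord_zero j (by
      show KaehlerDifferential.D R A ((Polynomial.evalRingHom (0 : A)) (mono A (s j))) = 0
      rw [h0, map_zero]), smul_zero]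
  · have h0 : (Polynomial.evalRingHom (0 : A)) (mono A c) = 0 := by
      unfold mono
      simp [hc]
    rw [h0, zero_smul]

include hψ hev in
theorem psi_ev_mgen_of_zero (q : ℕ) (c : A × ℕ) (s : Fin q → A × ℕ) (h : wt A q c s = 0) :
    ψ q (ev q (mgen R A q c s)) = mgen R A q c s := by
  have hc : c.2 = 0 := by unfold wt at h; omega
  have hs : ∀ j, (s j).2 = 0 := by
    intro j
    unfold wt at h
    have h1 : ∑ j, (s j).2 = 0 := by omega
    exact (Finset.sum_eq_zero_iff.1 h1) j (Finset.mem_univ j)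
  rw [mgen_eq_gen, hev q, hψ q]
  have e1 : ∀ c : A × ℕ, c.2 = 0 →
      algebraMap A A[X] ((Polynomial.evalRingHom (0 : A)) (mono A c)) = mono A c := by
    intro c hc
    unfold mono
    rw [hc]
    simp
  rw [e1 c hc]
  congr 1
  funext j
  exact e1 (s j) (hs j)

variable [Algebra ℚ R]

include hd hd' hψ hev in
/-- `(*)`: every `ω - ψ (ev ω)` is killed by some `Kop m` -/
theorem exists_Kop (q : ℕ) (ω : ↥(⋀[A[X]]^q (Ω[A[X]⁄R]))) :
    ∃ m, Kop d' (phi R A) q m (ω - ψ q (ev q ω)) = 0 := by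
  have hmem := mem_closure_mgen R A q ω
  induction hmem using AddSubmonoid.closure_induction with
  | mem x hx =>
    obtain ⟨⟨c, s⟩, rfl⟩ := hx
    show ∃ m, Kop d' (phi R A) q m (mgen R A q c s - ψ q (ev q (mgen R A q c s))) = 0
    rcases Nat.eq_zero_or_pos (wt A q c s) with h | h
    · exact ⟨0, by rw [psi_ev_mgen_of_zero ψ hψ ev hev q c s h, sub_self, map_zero]⟩
    · refine ⟨wt A q c s, ?_⟩
      rw [ev_mgen_of_pos ev hev q c s h, map_zero, sub_zero]
      exact Kop_eigen d' (phi R A) q _ h _ (lie_mgen R A d' hd' q c s)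
  | zero => exact ⟨0, by simp⟩
  | add x y _ _ hx hy =>
    have : x + y - ψ q (ev q (x + y)) = (x - ψ q (ev q x)) + (y - ψ q (ev q y)) := by
      rw [map_add, map_add]
      abel
    rw [this]
    exact Kop_add d' (phi R A) q _ _ hx hy

include hd hd' hψ hev in
theorem main
    (hcomm : ∀ (p : ℕ) (x : ↥(⋀[A]^p (Ω[A⁄R]))), ψ (p + 1) (d p x) = d' p (ψ p x)) (i : ℕ) :
    (∀ y ∈ DeRham.cocycles d' i, ∃ x ∈ DeRham.cocycles d i,
        y - ψ i x ∈ DeRham.coboundaries d' i) ∧
      (∀ x ∈ DeRham.cocycles d i, ψ i x ∈ DeRham.coboundaries d' i →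
        x ∈ DeRham.coboundaries d i) := by
  have hδ' := KaehlerDifferential.span_range_derivation R A[X]
  constructor
  · intro y hy
    have hy' : d' i y = 0 := hy
    have hx : d i (ev i y) = 0 := by
      rw [← ev_comm d hd d' hd' ev hev, hy', map_zero]
    refine ⟨ev i y, hx, ?_⟩
    set u := y - ψ i (ev i y) with hu
    have hucl : d' i u = 0 := by
      rw [hu, map_sub, hy', ← hcomm, hx, map_zero, sub_zero]
    obtain ⟨m, hm⟩ := exists_Kop d hd d' hd' ψ hψ ev hev i y
    cases i with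
    | zero =>
      show u ∈ (⊥ : Submodule R _)
      rw [Submodule.mem_bot]
      exact zero_of_Kop (KaehlerDifferential.D R A[X]) hδ' d' hd' (phi R A) m u hucl hm
    | succ j =>
      exact exact_of_Kop (KaehlerDifferential.D R A[X]) hδ' d' hd' (phi R A) j m u hucl hm
  · intro x hx h
    cases i with
    | zero =>
      have h0 : ψ 0 x = 0 := by
        have : ψ 0 x ∈ (⊥ : Submodule R _) := h
        rwa [Submodule.mem_bot] at this
      show x ∈ (⊥ : Submodule R _)
      rw [Submodule.mem_bot, ← ev_psi ψ hψ ev hev 0 x, h0, map_zero]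
    | succ j =>
      obtain ⟨z, hz⟩ := h
      refine ⟨ev j z, ?_⟩
      rw [← ev_comm d hd d' hd' ev hev, hz, ev_psi ψ hψ ev hev]

end Groth.Agent.Lib.Helper6.PolyHtpy
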