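import Groth.Agent.Lib.Helper6.PolyHtpy.Eigen

set_option linter.unusedSectionVars false
set_option linter.unusedVariables false
set_option linter.unusedSimpArgs false
set_option autoImplicit false
set_option linter.style.haveILetI false
set_option maxHeartbeats 400000

/-!
# The polynomial ring `A[X]` over `R`: Euler field `X d/dX`, monomial generators, evaluation at 0
-/

open exteriorPower Polynomial

namespace Groth.Agent.Lib.Helper6.PolyHtpy

open Groth.Agent.Lib.Helper6.DeRhamQuot Groth.Agent.Lib.Helper6.DeRhamGen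
open Groth.Agent.Lib.Helper6.Poincare

universe u

variable (R A : Type u) [CommRing R] [CommRing A] [Algebra R A]

/-- the derivation `X d/dX` of `A[X]` over `R` -/
noncomputable def Dx : Derivation R A[X] A[X] :=
  (X : A[X]) • ((Polynomial.derivative' (R := A)).restrictScalars R)

theorem Dx_apply (f : A[X]) : Dx R A f = X * derivative f := rfl

/-- the Euler form on `Ω[A[X]/R]` -/
noncomputable def phi : Module.Dual A[X] (Ω[A[X]⁄R]) := (Dx R A).liftKaehlerDifferential

theorem phi_D (f : A[X]) : phi R A (KaehlerDifferential.D R A[X] f) = X * derivative f := by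
  unfold phi
  rw [Derivation.liftKaehlerDifferential_comp_D, Dx_apply]

/-- monomials indexed by `A × ℕ` -/
noncomputable def mono (c : A × ℕ) : A[X] := monomial c.2 c.1

theorem phi_D_mono (c : A × ℕ) :
    phi R A (KaehlerDifferential.D R A[X] (mono A c)) = ((c.2 : ℕ) : A[X]) * mono A c := by
  rw [phi_D]
  unfold mono
  rw [derivative_monomial]
  rcases Nat.eq_zero_or_pos c.2 with h | h
  · rw [h]
    simp
  · obtain ⟨n, hn⟩ := Nat.exists_eq_succ_of_ne_zero h.ne'
    rw [hn, Nat.succ_sub_one, X_mul_monomial]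
    rw [← C_eq_natCast, C_mul_monomial, mul_comm]

/-- monomial generators -/
noncomputable def mgen (q : ℕ) (c : A × ℕ) (s : Fin q → A × ℕ) : ↥(⋀[A[X]]^q (Ω[A[X]⁄R])) :=
  mono A c • ιMulti A[X] q (fun j => KaehlerDifferential.D R A[X] (mono A (s j)))

theorem mgen_eq_gen (q : ℕ) (c : A × ℕ) (s : Fin q → A × ℕ) :
    mgen R A q c s = DeRham.gen (KaehlerDifferential.D R A[X]) q (mono A c) (fun j => mono A (s j)) :=
  rfl

/-- the weight of a monomial generator -/
def wt (q : ℕ) (c : A × ℕ) (s : Fin q → A × ℕ) : ℕ := c.2 + ∑ j, (s j).2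

variable (d' : ∀ p : ℕ, ↥(⋀[A[X]]^p (Ω[A[X]⁄R])) →ₗ[R] ↥(⋀[A[X]]^(p + 1) (Ω[A[X]⁄R])))
  (hd' : DeRham.IsDiff (KaehlerDifferential.D R A[X]) d')

include hd' in
theorem lie_mgen (q : ℕ) (c : A × ℕ) (s : Fin q → A × ℕ) :
    lie d' (phi R A) q (mgen R A q c s) = (wt A q c s) • mgen R A q c s := by
  unfold mgen
  rw [lie_weight (KaehlerDifferential.D R A[X]) (KaehlerDifferential.span_range_derivation R A[X])
    d' hd' (phi R A) (mono A) (fun c => c.2) (phi_D_mono R A) q s (mono A c), phi_D_mono,
    ← add_mul, ← Nat.cast_add, mul_smul]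
  rw [Nat.cast_smul_eq_nsmul]
  rfl

/-- every form is a sum of monomial generators -/
theorem mem_closure_mgen (q : ℕ) (ω : ↥(⋀[A[X]]^q (Ω[A[X]⁄R]))) :
    ω ∈ AddSubmonoid.closure (Set.range (fun cs : (A × ℕ) × (Fin q → A × ℕ) => mgen R A q cs.1 cs.2)) := by
  classical
  induction ω using kaehler_induction R A[X] q with
  | zero => exact AddSubmonoid.zero_mem _
  | add x y hx hy => exact AddSubmonoid.add_mem _ hx hy
  | gen b₀ b =>
    unfold DeRham.gen
    have h1 : ∀ i, KaehlerDifferential.D R A[X] (b i)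
        = ∑ n ∈ (b i).support, KaehlerDifferential.D R A[X] (mono A ((b i).coeff n, n)) := by
      intro i
      conv_lhs => rw [(b i).as_sum_support]
      rw [map_sum]
      rfl
    have h2 : (fun i => KaehlerDifferential.D R A[X] (b i))
        = fun i => ∑ n ∈ (b i).support, KaehlerDifferential.D R A[X] (mono A ((b i).coeff n, n)) :=
      funext h1
    rw [h2]
    show b₀ • (ιMulti A[X] q (M := Ω[A[X]⁄R])).toMultilinearMap (fun i =>
      ∑ n ∈ (b i).support, KaehlerDifferential.D R A[X] (mono A ((b i).coeff n, n))) ∈ _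
    rw [MultilinearMap.map_sum_finset]
    have hb₀ : b₀ = ∑ n ∈ b₀.support, mono A (b₀.coeff n, n) := b₀.as_sum_support
    rw [hb₀, Finset.sum_smul]
    refine AddSubmonoid.sum_mem _ fun n₀ _ => ?_
    rw [Finset.smul_sum]
    refine AddSubmonoid.sum_mem _ fun r _ => ?_
    exact AddSubmonoid.subset_closure ⟨((b₀.coeff n₀, n₀), fun i => ((b i).coeff (r i), r i)), rfl⟩

end Groth.Agent.Lib.Helper6.PolyHtpy
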