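import Groth.Agent.Lib.Helper6.Poincare.Coord

set_option linter.unusedSectionVars false
set_option linter.unusedVariables false
set_option linter.unusedSimpArgs false
set_option autoImplicit false
set_option linter.style.haveILetI false
set_option maxHeartbeats 400000

/-!
# The Lie derivative on weighted coordinate forms, and the uniform Lie derivative
-/

open exteriorPower

namespace Groth.Agent.Lib.Helper6.Poincare

open Groth.Agent.Lib.Helper6.DeRhamQuot Groth.Agent.Lib.Helper6.DeRhamGen

universe v u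

variable {R : Type v} {A M : Type u} [CommRing R] [CommRing A] [Algebra R A]
  [AddCommGroup M] [Module A M] [Module R M] [IsScalarTower R A M]

variable (δ : Derivation R A M) (hδ : Submodule.span A (Set.range δ) = ⊤)
  (d : ∀ p : ℕ, ↥(⋀[A]^p M) →ₗ[R] ↥(⋀[A]^(p + 1) M)) (hd : DeRham.IsDiff δ d)
  (φ : Module.Dual A M)

/-- the Lie derivative in every degree -/
noncomputable def lie : (q : ℕ) → ↥(⋀[A]^q M) →ₗ[R] ↥(⋀[A]^q M)
  | 0 => lie0 d φ
  | q + 1 => lieS d φ q

include hδ hd in
theorem d_lie (q : ℕ) (η : ↥(⋀[A]^q M)) : d q (lie d φ q η) = lie d φ (q + 1) (d q η) := by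
  have h1 : ∀ (p : ℕ) (z : ↥(⋀[A]^p M)), d (p + 1) (d p z) = 0 := fun p z =>
    LinearMap.congr_fun (hd.2 p) z
  cases q with
  | zero =>
    show d 0 (lie0 d φ η) = lieS d φ 0 (d 0 η)
    rw [lieS_apply, lie0_apply, h1, map_zero, add_zero]
  | succ q => exact d_lieS δ hδ d hd φ q η

theorem lie_closed_zero (η : ↥(⋀[A]^0 M)) (h : d 0 η = 0) : lie d φ 0 η = 0 := by
  show lie0 d φ η = 0
  rw [lie0_apply, h, map_zero]

theorem lie_closed_succ (q : ℕ) (η : ↥(⋀[A]^(q + 1) M)) (h : d (q + 1) η = 0) :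
    lie d φ (q + 1) η = d q (contrP φ q η) := by
  show lieS d φ q η = _
  rw [lieS_apply, h, map_zero, add_zero]

omit [Module R M] [IsScalarTower R A M] [Algebra R A] in
theorem wedgeL_smul_left (q : ℕ) (c : A) (a : M) (η : ↥(⋀[A]^q M)) :
    wedgeL q (c • a) η = c • wedgeL q a η := by
  have hy : η ∈ Submodule.span A (Set.range (ιMulti A q (M := M))) := by
    rw [ιMulti_span]
    trivial
  induction hy using Submodule.span_induction with
  | mem y hy =>
    obtain ⟨m, rfl⟩ := hy
    rw [wedgeL_ιMulti, wedgeL_ιMulti, ιMulti_cons_smul]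
  | zero => simp
  | add x y _ _ hx hy => rw [map_add, map_add, hx, hy, smul_add]
  | smul c' x _ hx => rw [map_smul, map_smul, hx, smul_comm]

variable {σ : Type*} (x : σ → A) (n : σ → ℕ) (hx : ∀ i, φ (δ (x i)) = (n i : A) * x i)
include hδ hd hx

theorem wedgeL_delta_weight (q : ℕ) (i : σ) (η : ↥(⋀[A]^q M)) :
    wedgeL q (δ (φ (δ (x i)))) η = (n i : A) • wedgeL q (δ (x i)) η := by
  have h1 : δ ((n i : A) * x i) = (n i : A) • δ (x i) := by
    rw [Derivation.leibniz, Derivation.map_natCast, smul_zero, add_zero]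
  rw [hx, h1, wedgeL_smul_left]

theorem lie_weight : ∀ (q : ℕ) (s : Fin q → σ) (f : A),
    lie d φ q (f • ιMulti A q (fun j => δ (x (s j))))
      = (φ (δ f) + ((∑ j, n (s j) : ℕ) : A) * f) • ιMulti A q (fun j => δ (x (s j))) := by
  intro q
  induction q with
  | zero =>
    intro s f
    show lie0 d φ _ = _
    rw [lie0_coord δ hδ d hd φ (fun _ : Unit => (0 : A)) (fun _ => by simp)]
    simp
  | succ q ih =>
    intro s f
    set v : Fin (q + 1) → M := fun j => δ (x (s j)) with hv
    have e0 : ιMulti A (q + 1) v = wedgeL q (δ (x (s 0))) (ιMulti A q (Fin.tail v)) := by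
      rw [wedgeL_ιMulti]
      congr 1
      exact (Fin.cons_self_tail v).symm
    have e1 : f • ιMulti A (q + 1) v = wedgeL q (δ (x (s 0))) (f • ιMulti A q (Fin.tail v)) := by
      rw [LinearMap.map_smul, ← e0]
    have h2 : Fin.tail v = fun j : Fin q => δ (x (s j.succ)) := rfl
    have hih := ih (fun j => s j.succ) f
    have key : lie d φ (q + 1) (wedgeL q (δ (x (s 0))) (f • ιMulti A q (Fin.tail v)))
        = wedgeL q (δ (φ (δ (x (s 0))))) (f • ιMulti A q (Fin.tail v))
          + wedgeL q (δ (x (s 0))) (lie d φ q (f • ιMulti A q (Fin.tail v))) := by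
      cases q with
      | zero => exact lieS_zero_wedgeL δ hδ d hd φ (x (s 0)) _
      | succ q => exact lieS_succ_wedgeL δ hδ d hd φ q (x (s 0)) _
    rw [e1, key, wedgeL_delta_weight δ hδ d hd φ x n hx, h2, hih, LinearMap.map_smul,
      LinearMap.map_smul, ← h2, ← e0, smul_smul, ← add_smul]
    congr 1
    rw [Fin.sum_univ_succ]
    push_cast
    ring

end Groth.Agent.Lib.Helper6.Poincare
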